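import Groth.Agent.CycLib.Finite
import Groth.Agent.CycLib.Pull
import Groth.Agent.CycLib.DivPushProper
import Groth.Agent.FibDim.BaseField
import Groth.Agent.MorLib.GenFinite
import Groth.Agent.MorLib.BddFib
import Groth.Agent.FlatMisc.GenFlat
import Groth.Agent.RGLib.FibNear
import Groth.Agent.H23.FiniteFlatDeg

/-! Generically finite dominant morphisms of equidimensional varieties. -/

set_option autoImplicit false
set_option backward.isDefEq.respectTransparency false
set_option backward.isDefEq.respectTransparency.types false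

universe u

open AlgebraicGeometry CategoryTheory CategoryTheory.Limits TopologicalSpace

namespace Groth.Agent.GenDegLib

variable {X Y : Scheme.{u}}

theorem dim_eq_rd {k : Type u} [Field k] [IsIntegral X] (g : X ⟶ Spec (CommRingCat.of k))
    [LocallyOfFiniteType g] :
    topologicalKrullDim ↥X = ((FibDim.rd g (genericPoint X) : ℕ∞) : WithBot ℕ∞) := by
  haveI : Subsingleton ↥(Spec (CommRingCat.of k)) := FibDim.subsingleton_spec_field k
  rw [← FibDim.topologicalKrullDim_closure g, (genericPoint_spec X).def]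
  exact (IsHomeomorph.topologicalKrullDim_eq _ (Homeomorph.Set.univ X).isHomeomorph).symm

/-- Same dimension and dominant: no relative dimension at the generic point. -/
theorem rd_eq_zero {k : Type u} [Field k] [IsIntegral X] [IsIntegral Y] (f : X ⟶ Y)
    (g : X ⟶ Spec (CommRingCat.of k)) (h : Y ⟶ Spec (CommRingCat.of k)) [LocallyOfFiniteType f]
    [LocallyOfFiniteType g] [LocallyOfFiniteType h] (w : f ≫ h = g)
    (hη : f (genericPoint X) = genericPoint Y) (hdim : topologicalKrullDim ↥X = topologicalKrullDim ↥Y) :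
    FibDim.rd f (genericPoint X) = 0 := by
  subst w
  have hh := CycLib.rd_comp f h (genericPoint X)
  rw [hη] at hh
  rw [dim_eq_rd (f ≫ h), dim_eq_rd h] at hdim
  have : FibDim.rd (f ≫ h) (genericPoint X) = FibDim.rd h (genericPoint Y) := by exact_mod_cast hdim
  omega

theorem preimage_generic [IsIntegral X] [IsIntegral Y] [IsLocallyNoetherian Y] (f : X ⟶ Y)
    [LocallyOfFiniteType f] (hη : f (genericPoint X) = genericPoint Y)
    (h0 : FibDim.rd f (genericPoint X) = 0) {z : X} (hz : f z = genericPoint Y) : z = genericPoint X := by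
  haveI := LocallyOfFiniteType.isLocallyNoetherian f
  have hs : genericPoint X ⤳ z := (genericPoint_spec X).specializes (Set.mem_univ z)
  have h := (DimFormula.cd_formula f hs).1
  rw [hη, hz, h0, DimFormula.cd_self] at h
  exact ((DimFormula.cd_eq_zero_iff hs).1 (by omega)).symm

/-- The degree over a nonempty open. -/
theorem exists_open_degree [IsIntegral X] [IsIntegral Y] [IsLocallyNoetherian Y] (f : X ⟶ Y)
    [LocallyOfFiniteType f] [QuasiCompact f] (hη : f (genericPoint X) = genericPoint Y)
    (h0 : FibDim.rd f (genericPoint X) = 0) :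
    ∃ V : Y.Opens, Nonempty ↥V ∧ IsFinite (f ∣_ V) ∧ Flat (f ∣_ V) ∧ LocallyOfFinitePresentation (f ∣_ V) ∧
      ∀ v : ↥V, (f ∣_ V).finrank v = f.residueDegree (genericPoint X) := by
  obtain ⟨W, hW, -, hWf, hWp⟩ := FlatMisc.exists_flat_open f ⊤ ⟨genericPoint Y, trivial⟩
  have hηW : genericPoint Y ∈ W := (genericPoint_spec Y).mem_open_set_iff W.2 |>.2 (by simpa using hW)
  have hgen : genericPoint Y ∈ genericPoints Y := by rw [genericPoints_eq_singleton]; rfl
  have hfib : f ⁻¹' {genericPoint Y} = {genericPoint X} :=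
    Set.eq_singleton_iff_unique_mem.2 ⟨hη, fun z hz => preimage_generic f hη h0 hz⟩
  obtain ⟨V, -, hηV, hle, hfin⟩ := MorLib.GenFinite.exists_isFinite f hgen (hfib ▸ Set.finite_singleton _)
    (fun x hx => ⟨⊤, trivial, fun z _ hz =>
      (preimage_generic f hη h0 hz).trans (preimage_generic f hη h0 hx).symm⟩)
    (fun V₀ _ _ U₁ U₂ _ _ _ _ h => ⟨⊤, trivial, fun z hz _ =>
      h (genericPoint X) (((genericPoint_spec X).mem_open_set_iff (U₁ ⊓ U₂).2).2 ⟨z, trivial, hz⟩) hη⟩)
    W hηW
  have hVf : Flat (f ∣_ V) := RGLib.FibNear.restrict_of_le f hle hWf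
  have hVp : LocallyOfFinitePresentation (f ∣_ V) := RGLib.FibNear.restrict_of_le f hle hWp
  refine ⟨V, ⟨⟨_, hηV⟩⟩, hfin, hVf, hVp, fun v => ?_⟩
  haveI := hfin
  haveI := hVf
  haveI := hVp
  haveI : Nonempty ↥V := ⟨⟨_, hηV⟩⟩
  have hξV : genericPoint X ∈ f ⁻¹ᵁ V := by
    show f (genericPoint X) ∈ V
    rw [hη]; exact hηV
  haveI : Nonempty ↥(f ⁻¹ᵁ V) := ⟨⟨_, hξV⟩⟩
  haveI : Nonempty ↥V.toScheme := ⟨⟨_, hηV⟩⟩
  haveI : Nonempty ↥(f ⁻¹ᵁ V).toScheme := ⟨⟨_, hξV⟩⟩
  haveI : IsIntegral V.toScheme := isIntegral_of_isOpenImmersion V.ι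
  haveI : IsIntegral (f ⁻¹ᵁ V).toScheme := isIntegral_of_isOpenImmersion (f ⁻¹ᵁ V).ι
  haveI : PreconnectedSpace ↥V.toScheme := inferInstance
  let f' := f ∣_ V
  let U := (f ⁻¹ᵁ V).toScheme
  have hU : (f ⁻¹ᵁ V).ι (genericPoint U) = genericPoint X := genericPoint_eq_of_isOpenImmersion (f ⁻¹ᵁ V).ι
  have hfU : (f' (genericPoint U)).1 = genericPoint Y := by
    show (f' ≫ V.ι) (genericPoint U) = _
    rw [morphismRestrict_ι, Scheme.Hom.comp_apply, hU, hη]
  rw [(f ∣_ V).isLocallyConstant_finrank.apply_eq_of_preconnectedSpace v (f' (genericPoint U)),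
    ← (H23.FiniteFibreSum.sum_finrank f' (f' (genericPoint U))).2]
  have hset : f' ⁻¹' {f' (genericPoint U)} = {genericPoint U} :=
    Set.eq_singleton_iff_unique_mem.2 ⟨rfl, fun z hz => by
      refine (f ⁻¹ᵁ V).ι.isOpenEmbedding.injective ?_
      rw [hU]
      refine preimage_generic f hη h0 ?_
      rw [← Scheme.Hom.comp_apply, ← morphismRestrict_ι, Scheme.Hom.comp_apply]
      exact (congrArg V.ι (hz : f' z = _)).trans hfU⟩
  rw [hset, finsum_mem_singleton]
  have hdeg : f'.residueDegree (genericPoint U) = f.residueDegree (genericPoint X) := by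
    have h1 := CycLib.residueDegree_comp f' V.ι (genericPoint U)
    have h2 := CycLib.residueDegree_comp (f ⁻¹ᵁ V).ι f (genericPoint U)
    rw [CycLib.residueDegree_preimmersion (f ⁻¹ᵁ V).ι, hU] at h2
    rw [CycLib.residueDegree_preimmersion V.ι, morphismRestrict_ι, h2] at h1
    simp only [one_mul, mul_one] at h1
    exact h1.symm
  have hlen : H23.FiniteFibreSum.fibreLen f' (genericPoint U) = 1 := by
    rw [H23.FiniteFibreSum.fibreLen]
    letI : Field (U.presheaf.stalk (genericPoint U)) := (inferInstanceAs (Field U.functionField))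
    have hne : Ideal.map (f'.stalkMap (genericPoint U)).hom (IsLocalRing.maximalIdeal _) = ⊥ := by
      refine (Ideal.eq_bot_or_top _).resolve_right fun e => ?_
      exact (IsLocalRing.maximalIdeal.isMaximal (U.presheaf.stalk (genericPoint U))).ne_top (top_le_iff.1 (e ▸
        Ideal.map_le_iff_le_comap.2 fun t ht hu => ht (isUnit_of_map_unit (f'.stalkMap (genericPoint U)).hom t hu)))
    rw [(Submodule.quotEquivOfEqBot _ hne).length_eq, Module.length_eq_one_iff]
    infer_instance
  rw [hdeg, hlen]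
  simp

/-- Global sections of the fibre at a point of such an open. -/
theorem fibre_finrank (f : X ⟶ Y) (V : Y.Opens) [IsFinite (f ∣_ V)] [Flat (f ∣_ V)]
    (y : Y) (hy : y ∈ V) :
    IsFinite (pullback.snd f (Y.fromSpecResidueField y)) ∧
      (letI := ((Scheme.ΓSpecIso (CommRingCat.of (Y.residueField y))).inv ≫
          (pullback.snd f (Y.fromSpecResidueField y)).appTop).hom.toAlgebra;
        Module.finrank (Y.residueField y) ↑(Γ(pullback f (Y.fromSpecResidueField y), ⊤))) =
      (f ∣_ V).finrank ⟨y, hy⟩ := by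
  let K : CommRingCat.{u} := CommRingCat.of (Y.residueField y)
  have hK : IsField K := Field.toIsField (Y.residueField y)
  let g := Y.fromSpecResidueField y
  have hr : Set.range g ⊆ Set.range V.ι := by
    rw [Scheme.range_fromSpecResidueField, Scheme.Opens.range_ι]
    exact Set.singleton_subset_iff.2 hy
  let a : Spec (Y.residueField y) ⟶ V := IsOpenImmersion.lift V.ι g hr
  have ha : a ≫ V.ι = g := IsOpenImmersion.lift_fac _ _ _
  have h : IsPullback (pullback.fst (f ∣_ V) a ≫ (f ⁻¹ᵁ V).ι) (pullback.snd (f ∣_ V) a) f g := by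
    rw [← ha]
    exact (IsPullback.of_hasPullback (f ∣_ V) a).paste_horiz (isPullback_morphismRestrict f V).flip
  let q := pullback.snd f g
  have hq : q = h.isoPullback.inv ≫ pullback.snd (f ∣_ V) a := (h.isoPullback_inv_snd).symm
  haveI : IsFinite (pullback.snd (f ∣_ V) a) := MorphismProperty.pullback_snd _ _ inferInstance
  haveI : Flat (pullback.snd (f ∣_ V) a) := MorphismProperty.pullback_snd _ _ inferInstance
  haveI : IsFinite q := by rw [hq]; infer_instance
  haveI : Flat q := by rw [hq]; infer_instance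
  refine ⟨inferInstanceAs (IsFinite q), ?_⟩
  haveI : IsAffine (pullback f g) := isAffine_of_isAffineHom q
  let φ := (Scheme.ΓSpecIso K).inv ≫ q.appTop
  have e := MorLib.BF.eq_isoSpec_hom_comp (K := K) q
  have h2 : IsFinite (Spec.map φ) := by
    have : IsFinite ((pullback f g).isoSpec.inv ≫ q) := inferInstance
    rwa [e, Iso.inv_hom_id_assoc] at this
  have hfin : φ.hom.Finite := (IsFinite.SpecMap_iff φ).mp h2
  haveI : Flat (Spec.map φ) := MorLib.BF.flat_to_field hK _
  haveI : IsFinite (Spec.map φ) := h2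
  let o : Spec (Y.residueField y) := IsLocalRing.closedPoint (Y.residueField y)
  have hpt : a o = ⟨y, hy⟩ := by
    refine V.ι.isOpenEmbedding.injective ?_
    rw [← Scheme.Hom.comp_apply, ha]
    exact Scheme.fromSpecResidueField_apply _ _
  calc _ = (Spec.map φ).finrank o := (MorLib.BF.finrank_SpecMap_of_isField hK φ hfin o).symm
    _ = q.finrank o := by conv_rhs => rw [e, Scheme.Hom.finrank_comp_left_of_isIso]
    _ = (pullback.snd (f ∣_ V) a).finrank o := by conv_lhs => rw [hq, Scheme.Hom.finrank_comp_left_of_isIso]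
    _ = _ := by rw [Scheme.Hom.finrank_pullback_snd, hpt]

end Groth.Agent.GenDegLib
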