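import Groth.Agent.GenDegLib.Basic
import Groth.Agent.MorLib.WeightDeg
import Groth.Agent.S10882
import Groth.Agent.S14041
import Groth.Agent.AvramovLib.Ps

/-! The rank of quasi-finite fibres between regular varieties is at most the degree. -/

set_option autoImplicit false
set_option backward.isDefEq.respectTransparency false
set_option backward.isDefEq.respectTransparency.types false

universe u

open AlgebraicGeometry CategoryTheory CategoryTheory.Limits TopologicalSpace

namespace Groth.Agent.GenDegLib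

variable {X Y : Scheme.{u}}

theorem locallyQuasiFinite_of_forall (g : X ⟶ Y) [LocallyOfFiniteType g] (h : ∀ x, g.QuasiFiniteAt x) :
    LocallyQuasiFinite g := by
  refine (locallyQuasiFinite_iff_isDiscrete_preimage_singleton).mpr fun y => ?_
  refine isDiscrete_iff_forall_mem_exists_isOpen.mpr fun x hx => ?_
  have ho := (Scheme.Hom.quasiFiniteAt_iff_isOpen_singleton_asFiber).mp (h x)
  rw [← (g.fiberHomeo _).isOpen_image, Set.image_singleton, isOpen_induced_iff] at ho
  obtain ⟨O, hO, hOe⟩ := ho
  simp only [Set.mem_preimage, Set.mem_singleton_iff] at hx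
  refine ⟨O, hO, ?_⟩
  ext z
  have hz := fun hz' => Set.ext_iff.mp hOe ⟨z, hz'⟩
  simp only [Scheme.Hom.asFiber, Homeomorph.apply_symm_apply, Set.mem_preimage,
    Set.mem_singleton_iff, Subtype.mk.injEq] at hz
  constructor
  · rintro ⟨hz1, hz2⟩
    exact (hz (by simpa [hx] using hz2)).mp hz1
  · rintro rfl
    exact ⟨(hz (by simp)).mpr rfl, hx⟩

theorem quasiFiniteAt_of_isFinite_fibre (f : X ⟶ Y) [LocallyOfFiniteType f] {y : Y}
    (h : IsFinite (pullback.snd f (Y.fromSpecResidueField y))) {x : X} (hx : f x = y) : f.QuasiFiniteAt x := by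
  subst hx
  haveI : IsFinite (f.fiberToSpecResidueField (f x)) := h
  haveI : IsLocallyArtinian (f.fiber (f x)) :=
    IsLocallyArtinian.of_locallyQuasiFinite (f.fiberToSpecResidueField (f x))
  exact Scheme.Hom.quasiFiniteAt_iff_isOpen_singleton_asFiber.mpr (isOpen_discrete _)

theorem fibre_components_zero (g : X ⟶ Y) [LocallyQuasiFinite g] [QuasiCompact g] (y : Y) (Z : Set ↥(g.base ⁻¹' {y}))
    (hZ : Z ∈ irreducibleComponents ↥(g.base ⁻¹' {y})) : topologicalKrullDim ↥Z = 0 := by
  haveI : DiscreteTopology ↥(g.base ⁻¹' {y}) := isDiscrete_iff_discreteTopology.1 (g.isDiscrete_preimage_singleton y)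
  haveI : DiscreteTopology ↥Z := inferInstance
  haveI : Nonempty ↥Z := hZ.1.nonempty.to_subtype
  haveI : IrreducibleSpace ↥Z := by
    haveI : PreirreducibleSpace ↥Z := Subtype.preirreducibleSpace hZ.1.isPreirreducible
    exact ⟨inferInstance⟩
  haveI : Subsingleton ↥Z := ⟨fun a b => by
    by_contra hab
    obtain ⟨c, hca, hcb⟩ := nonempty_preirreducible_inter (isOpen_discrete ({a} : Set ↥Z)) (isOpen_discrete ({b} : Set ↥Z))
      ⟨a, rfl⟩ ⟨b, rfl⟩
    exact hab (hca.symm.trans hcb)⟩
  refine le_antisymm (topologicalKrullDim_zero_of_discreteTopology _) ?_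
  haveI : Nonempty (IrreducibleCloseds ↥Z) := ⟨⟨Set.univ, IrreducibleSpace.isIrreducible_univ _, isClosed_univ⟩⟩
  exact Order.krullDim_nonneg

/-- A quasi-finite map of regular varieties of equal dimension is flat. -/
theorem flat_of_regular {k : Type u} [Field k] (q : Y ⟶ Spec (CommRingCat.of k)) [LocallyOfFiniteType q]
    [IsIntegral X] [IsIntegral Y] (g : X ⟶ Y) [LocallyOfFiniteType (g ≫ q)] [LocallyQuasiFinite g] [QuasiCompact g]
    (hdim : topologicalKrullDim ↥X = topologicalKrullDim ↥Y)
    (hX : ∀ x : X, IsRegularLocalRing (X.presheaf.stalk x))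
    (hY : ∀ y : Y, IsRegularLocalRing (Y.presheaf.stalk y)) : Flat g := by
  have huniv : ∀ {T : Scheme.{u}} [IsIntegral T] (Z : Set T), Z ∈ irreducibleComponents (T : Type u) →
      topologicalKrullDim ↥Z = topologicalKrullDim ↥T := fun {T} _ Z hZ => by
    rw [irreducibleComponents_eq_singleton] at hZ
    rw [Set.mem_singleton_iff] at hZ
    subst hZ
    exact IsHomeomorph.topologicalKrullDim_eq _ (Homeomorph.Set.univ T).isHomeomorph
  have hd : topologicalKrullDim ↥Y = ((FibDim.rd q (genericPoint Y) : ℕ) : WithBot ℕ∞) := dim_eq_rd q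
  refine S10882.result k q g hY (fun x => by haveI := hX x; exact AvramovLib.isCM_of_regular _)
    (FibDim.rd q (genericPoint Y)) (FibDim.rd q (genericPoint Y)) le_rfl
    (fun Z hZ => (huniv Z hZ).trans (hdim.trans hd)) (fun Z hZ => (huniv Z hZ).trans hd) fun y Z hZ => ?_
  rw [fibre_components_zero g y Z hZ, Nat.sub_self]
  rfl

end Groth.Agent.GenDegLib
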